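import Groth.Agent.L21.CurveFin.Exact
import Groth.Agent.L28.Transfer.Constr
import Groth.Agent.S0137
import Mathlib.GroupTheory.Perm.Cycle.Type
import Mathlib.Data.Nat.ChineseRemainder

/-!
# Finiteness for constructible sheaves from that for constant sheaves
-/

set_option autoImplicit false
set_option linter.style.haveILetI false
set_option linter.unusedSectionVars false
set_option backward.isDefEq.respectTransparency.types false

universe u

open CategoryTheory CategoryTheory.Limits AlgebraicGeometry Opposite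

noncomputable section

namespace Groth.L21.CurveFin

open Groth.L27.PBC (liftHom cMap const_additive)

/-- Separate the prime factors by a predicate. -/
theorem exists_factor (P : ℕ → Prop) (N : ℕ) (hN : 0 < N) :
    ∃ a b : ℕ, N = a * b ∧ (∀ p : ℕ, p.Prime → p ∣ a → P p) ∧ (∀ p : ℕ, p.Prime → p ∣ b → ¬ P p) := by
  induction N using Nat.strongRecOn with
  | _ N ih =>
    by_cases h1 : N = 1
    · exact ⟨1, 1, h1, fun p hp h => absurd (Nat.dvd_one.1 h) hp.ne_one,
        fun p hp h => absurd (Nat.dvd_one.1 h) hp.ne_one⟩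
    obtain ⟨p, hp, M, rfl⟩ := Nat.exists_prime_and_dvd h1
    have hM : 0 < M := Nat.pos_of_ne_zero fun h => by rw [h, mul_zero] at hN; exact lt_irrefl _ hN
    obtain ⟨a, b, rfl, ha, hb⟩ := ih M ((lt_mul_iff_one_lt_left hM).2 hp.one_lt) hM
    by_cases hPp : P p
    · refine ⟨p * a, b, (mul_assoc p a b).symm, fun r hr h => ?_, hb⟩
      rcases (Nat.Prime.dvd_mul hr).1 h with h | h
      · exact (Nat.prime_dvd_prime_iff_eq hr hp).1 h ▸ hPp
      · exact ha r hr h
    · refine ⟨a, p * b, mul_left_comm p a b, ha, fun r hr h => ?_⟩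
      rcases (Nat.Prime.dvd_mul hr).1 h with h | h
      · exact (Nat.prime_dvd_prime_iff_eq hr hp).1 h ▸ hPp
      · exact hb r hr h

variable {X : Scheme.{u}}

theorem cMap_comp (Y : Scheme.{u}) {L M N : Type} [AddCommGroup L] [AddCommGroup M] [AddCommGroup N] (φ : L →+ M)
    (ψ : M →+ N) : cMap Y φ ≫ cMap Y ψ = cMap Y (ψ.comp φ) :=
  ((constantSheaf Y.smallEtaleTopology AddCommGrpCat.{u + 1}).map_comp _ _).symm

theorem cMap_nsmul (Y : Scheme.{u}) {M N : Type} [AddCommGroup M] [AddCommGroup N] (n : ℕ) (φ : M →+ N) :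
    cMap Y (n • φ) = n • cMap Y φ := by
  haveI := const_additive Y
  show (constantSheaf Y.smallEtaleTopology AddCommGrpCat.{u + 1}).map (liftHom (n • φ)) = _
  rw [show liftHom.{u} (n • φ) = n • liftHom φ from ConcreteCategory.hom_ext _ _ fun a => rfl]
  exact Functor.map_nsmul (F := constantSheaf Y.smallEtaleTopology AddCommGrpCat.{u + 1})

theorem cMap_id (Y : Scheme.{u}) (M : Type) [AddCommGroup M] : cMap Y (AddMonoidHom.id M) = 𝟙 _ :=
  (congrArg (constantSheaf Y.smallEtaleTopology AddCommGrpCat.{u + 1}).map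
    (ConcreteCategory.hom_ext _ _ fun _ => rfl)).trans ((constantSheaf Y.smallEtaleTopology AddCommGrpCat.{u + 1}).map_id _)

theorem nsmul_id_const (Y : Scheme.{u}) (M : Type) [AddCommGroup M] (n : ℕ) (h : ∀ m : M, n • m = 0) :
    n • 𝟙 (EtCoh.const Y M) = 0 := by
  rw [← cMap_id, ← cMap_nsmul, show n • AddMonoidHom.id M = 0 from AddMonoidHom.ext h]
  haveI := const_additive Y
  show (constantSheaf Y.smallEtaleTopology AddCommGrpCat.{u + 1}).map (liftHom 0) = 0
  rw [show liftHom.{u} (0 : M →+ M) = 0 from ConcreteCategory.hom_ext _ _ fun _ => rfl, Functor.map_zero]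

theorem nsmul_id_biproduct_push {n : ℕ} (Y : Fin n → Scheme.{u}) (f : ∀ i, Y i ⟶ X) (M : Fin n → Type)
    [∀ i, AddCommGroup (M i)] (c : ℕ) (h : ∀ i, ∀ m : M i, c • m = 0) :
    c • 𝟙 (⨁ fun i => (EtCoh.push (f i)).obj (EtCoh.const (Y i) (M i))) = 0 := by
  refine biproduct.hom_ext _ _ fun i => ?_
  haveI : (EtCoh.push (f i)).Additive := (EtCoh.pullPushAdj (f i)).right_adjoint_additive
  rw [Preadditive.nsmul_comp, Category.id_comp, zero_comp,
    ← Category.comp_id (biproduct.π (fun i => (EtCoh.push (f i)).obj (EtCoh.const (Y i) (M i))) i),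
    ← Preadditive.comp_nsmul, ← CategoryTheory.Functor.map_id, ← Functor.map_nsmul, nsmul_id_const (Y i) (M i) c (h i),
    Functor.map_zero, comp_zero]

theorem nsmul_id_of_mono {F G : EtCoh.Ab X} (ι : F ⟶ G) [Mono ι] {c : ℕ} (h : c • 𝟙 G = 0) : c • 𝟙 F = 0 := by
  rw [← cancel_mono ι, Preadditive.nsmul_comp, Category.id_comp, zero_comp, ← Category.comp_id ι,
    ← Preadditive.comp_nsmul, h, comp_zero]

theorem nsmul_id_of_epi {F G : EtCoh.Ab X} (π : F ⟶ G) [Epi π] {c : ℕ} (h : c • 𝟙 F = 0) : c • 𝟙 G = 0 := by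
  rw [← cancel_epi π, Preadditive.comp_nsmul, Category.comp_id, comp_zero, ← Category.id_comp π,
    ← Preadditive.nsmul_comp, h, zero_comp]

variable [AlgebraicGeometry.IsNoetherian X] (Good : ℕ → Prop)
  (hbase : ∀ (Y : Scheme.{u}) (f : Y ⟶ X) [IsFinite f], ∀ p : ℕ, p.Prime → Good p →
    ∀ q, Finite (EtCoh.H Y (EtCoh.const Y (ZMod p)) q))

include hbase

/-- Finiteness for constructible sheaves killed by a good integer. -/
theorem finite_H_of_killed (q : ℕ) : ∀ (F : EtCoh.Ab X) (c : ℕ), 0 < c → (∀ p : ℕ, p.Prime → p ∣ c → Good p) →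
    c • 𝟙 F = 0 → EtPBC.IsConstructible F → Finite (EtCoh.H X F q) := by
  induction q with
  | zero => exact fun F c _ _ _ hF => finite_H0 X F hF
  | succ q ih =>
    intro F c hc hgood hcF hF
    obtain ⟨n, Y, f, hf, hp, M, hMg, hM, h⟩ := Groth.Agent.S0144.result X F hF
    obtain ⟨ι, hι⟩ := h
    haveI := hι
    haveI := hM
    haveI := hf
    haveI := hp
    choose a b hab ha hb using fun i => exists_factor (· ∣ c) (Nat.card (M i)) Nat.card_pos
    let e : ∀ i, ℕ := fun i => (Nat.chineseRemainder (show Nat.Coprime c (b i) from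
      Nat.coprime_of_dvd fun p hp h1 h2 => hb i p hp h2 h1) 1 0).1
    have he : ∀ i, e i ≡ 1 [MOD c] ∧ e i ≡ 0 [MOD b i] := fun i => (Nat.chineseRemainder _ 1 0).2
    let M' : Fin n → Type := fun i => ↥(nsmulAddMonoidHom (α := M i) (e i)).range
    let s : ∀ i, M i →+ M' i := fun i => (nsmulAddMonoidHom (α := M i) (e i)).rangeRestrict
    let t : ∀ i, M' i →+ M i := fun i => (nsmulAddMonoidHom (α := M i) (e i)).range.subtype
    have hkill : ∀ i, ∀ m : M' i, a i • m = 0 := fun i m => by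
      obtain ⟨_, x, rfl⟩ := m
      refine Subtype.ext ?_
      show a i • (e i • x) = 0
      obtain ⟨j, hj⟩ : b i ∣ e i := (Nat.modEq_zero_iff_dvd).1 (he i).2
      rw [hj, ← mul_nsmul', ← mul_assoc, ← hab i, mul_nsmul, card_nsmul_eq_zero', nsmul_zero]
    have hgM : ∀ i, ∀ p : ℕ, p.Prime → p ∣ Nat.card (M' i) → p ∣ c := fun i p hp hpd => by
      haveI : Fact p.Prime := ⟨hp⟩
      obtain ⟨x, hx⟩ := exists_prime_addOrderOf_dvd_card' p hpd
      exact ha i p hp (hx ▸ addOrderOf_dvd_of_nsmul_eq_zero (hkill i x))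
    let G' := fun i => (EtCoh.push (f i)).obj (EtCoh.const (Y i) (M' i))
    let ι' : F ⟶ ⨁ G' := ι ≫ biproduct.map fun i => (EtCoh.push (f i)).map (cMap (Y i) (s i))
    haveI : Mono ι' := by
      suffices hfac : ι' ≫ biproduct.map (fun i => (EtCoh.push (f i)).map (cMap (Y i) (t i))) = ι by
        haveI : Mono (ι' ≫ biproduct.map (fun i => (EtCoh.push (f i)).map (cMap (Y i) (t i)))) := by rw [hfac]; assumption
        exact mono_of_mono ι' (biproduct.map (fun i => (EtCoh.push (f i)).map (cMap (Y i) (t i))))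
      refine biproduct.hom_ext _ _ fun i => ?_
      haveI : (EtCoh.push (f i)).Additive := (EtCoh.pullPushAdj (f i)).right_adjoint_additive
      simp only [ι', Category.assoc, biproduct.map_π, biproduct.map_π_assoc]
      rw [← Functor.map_comp, cMap_comp, show (t i).comp (s i) = e i • AddMonoidHom.id (M i) from AddMonoidHom.ext fun _ => rfl,
        cMap_nsmul, cMap_id, Functor.map_nsmul, CategoryTheory.Functor.map_id, Preadditive.comp_nsmul,
        Preadditive.comp_nsmul, Category.comp_id]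
      have hφ : ∀ {G : EtCoh.Ab X} (φ : F ⟶ G), c • φ = 0 := fun φ => by
        rw [← Category.id_comp φ, ← Preadditive.nsmul_comp, hcF, zero_comp]
      set φ := ι ≫ biproduct.π _ i with hφdef
      have h0 : ∀ j, (c * j) • φ = 0 := fun j => by rw [mul_nsmul', hφ]
      have h1 := he i
      calc e i • φ = (e i % c) • φ := by
            conv_lhs => rw [← Nat.mod_add_div (e i) c, add_nsmul, h0, add_zero]
        _ = (1 % c) • φ := by rw [show e i % c = 1 % c from h1.1]
        _ = φ := by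
            conv_rhs => rw [← one_nsmul φ, ← Nat.mod_add_div 1 c, add_nsmul, h0, add_zero]
    let c' := ∏ i, Nat.card (M' i)
    have hc' : 0 < c' := Finset.prod_pos fun i _ => Nat.card_pos
    have hgood' : ∀ p : ℕ, p.Prime → p ∣ c' → Good p := fun p hp hpd => by
      obtain ⟨i, -, hi⟩ := (Prime.dvd_finsetProd_iff hp.prime _).1 hpd
      exact hgood p hp (hgM i p hp hi)
    have hkill' : c' • 𝟙 (⨁ G') = 0 := nsmul_id_biproduct_push Y f M' c' fun i m => by
      obtain ⟨j, hj⟩ : Nat.card (M' i) ∣ c' := Finset.dvd_prod_of_mem _ (Finset.mem_univ i)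
      rw [hj, mul_nsmul, card_nsmul_eq_zero', nsmul_zero]
    have hG'c : EtPBC.IsConstructible (⨁ G') := Groth.L28.ExtShriek.isConstructible_biproduct _ fun i =>
      Groth.Agent.S0137.result (f i) _ (isConstructible_const _ _)
    let S : ShortComplex (EtCoh.Ab X) := ShortComplex.mk ι' (cokernel.π ι') (cokernel.condition _)
    have hS : S.ShortExact := { exact := ShortComplex.exact_cokernel ι' }
    refine finite_left hS q ?_ (finite_H_biproduct _ (q + 1) fun i => finite_H_push (f i) _ (q + 1) ?_)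
    · exact ih (cokernel ι') c' hc' hgood' (nsmul_id_of_epi (cokernel.π ι') hkill')
        (Groth.L28.Strata.isConstructible_kernel_cokernel ι' hF hG'c).2
    · exact finite_H_const_of_primes (Y i) Good (fun p hp hG r => hbase (Y i) (f i) p hp hG r) (M' i)
        (fun p hp hpd => hgood p hp (hgM i p hp hpd)) (q + 1)

/-- Finiteness for constructible sheaves killed locally by good integers. -/
theorem finite_H_constructible (F : EtCoh.Ab X) (hF : EtPBC.IsConstructible F)
    (hloc : ∀ (U : X.Etale) (s : EtCoh.sect F U) (x : U.left), ∃ (V : X.Etale) (g : V ⟶ U) (n : ℕ),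
      (∃ v : V.left, g.left.base v = x) ∧ 0 < n ∧ (∀ p : ℕ, p.Prime → p ∣ n → Good p) ∧ n • F.obj.map g.op s = 0)
    (q : ℕ) : Finite (EtCoh.H X F q) := by
  obtain ⟨n, Y, f, hf, hp, M, hMg, hM, h⟩ := Groth.Agent.S0144.result X F hF
  obtain ⟨ι, hι⟩ := h
  haveI := hι
  haveI := hM
  have hN : (∏ i, Nat.card (M i)) • 𝟙 F = 0 := nsmul_id_of_mono ι (nsmul_id_biproduct_push Y f M _ fun i m => by
    obtain ⟨j, hj⟩ : Nat.card (M i) ∣ ∏ i, Nat.card (M i) := Finset.dvd_prod_of_mem _ (Finset.mem_univ i)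
    rw [hj, mul_nsmul, card_nsmul_eq_zero', nsmul_zero])
  have hpos : 0 < ∏ i, Nat.card (M i) := Finset.prod_pos fun i _ => Nat.card_pos
  obtain ⟨a, b, hab, ha, hb⟩ := exists_factor Good _ hpos
  refine finite_H_of_killed Good hbase q F a (Nat.pos_of_ne_zero fun h => by rw [hab, h, zero_mul] at hpos; exact lt_irrefl _ hpos)
    ha (Groth.L28.Transfer.nsmul_id fun U s => ?_) hF
  refine Groth.L27.EtSite.ext_of_locally F fun x => ?_
  obtain ⟨V, g, m, ⟨v, hv⟩, hm, hgood, h0⟩ := hloc U s x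
  refine ⟨V, g, v, hv, ?_⟩
  rw [map_nsmul, map_zero]
  have hb0 : b • (a • F.obj.map g.op s) = 0 := by
    rw [← mul_nsmul', mul_comm b a, ← hab]
    exact Groth.L28.ExtShriek.killed_of_nsmul_id hN V _
  have hm0 : m • (a • F.obj.map g.op s) = 0 := by
    rw [← mul_nsmul', mul_comm, mul_nsmul', h0, nsmul_zero]
  exact AddMonoid.addOrderOf_eq_one_iff.1 (Nat.dvd_one.1
    ((Nat.coprime_of_dvd fun p hp h1 h2 => hb p hp h2 (hgood p hp h1) : Nat.Coprime m b) ▸
      Nat.dvd_gcd (addOrderOf_dvd_of_nsmul_eq_zero hm0) (addOrderOf_dvd_of_nsmul_eq_zero hb0)))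

end Groth.L21.CurveFin
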