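import Groth.Agent.L27.NormalSepClosed.ConstSect
import Groth.Agent.L27.MV.SES
import Groth.Agent.L27.LimCoh.HMaps
import Groth.Agent.L28.ExtShriek.Pres
import Groth.Agent.S0144

/-!
# Finiteness of the global sections of constructible sheaves
-/

set_option autoImplicit false
set_option linter.style.haveILetI false
set_option linter.unusedSectionVars false
set_option backward.isDefEq.respectTransparency.types false

universe u

open CategoryTheory CategoryTheory.Limits AlgebraicGeometry Opposite TopologicalSpace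

noncomputable section

namespace Groth.L21.CurveFin

open Groth.L27.ConstSect (cst map_cst exists_locally_cst exists_eq_cst)
open Groth.L27.MV (oE oTop)

variable (X : Scheme.{u}) [AlgebraicGeometry.IsNoetherian X]

/-- Finitely many irreducible opens with dense union. -/
theorem exists_irreducible_opens : ∃ (S : Set X.Opens), S.Finite ∧
    (∀ W ∈ S, IsPreirreducible (W : Set X) ∧ (W : Set X).Nonempty) ∧
    ∀ O : X.Opens, (O : Set X).Nonempty → ∃ W ∈ S, ((O : Set X) ∩ (W : Set X)).Nonempty := by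
  have hfin := NoetherianSpace.finite_irreducibleComponents (α := X)
  classical
  let W : Set X → X.Opens := fun Z => ⟨(⋃ Z' ∈ irreducibleComponents X \ {Z}, Z')ᶜ,
    ((hfin.subset Set.sdiff_subset).isClosed_biUnion fun Z' h => isClosed_of_mem_irreducibleComponents Z' h.1).isOpen_compl⟩
  have hsub : ∀ Z, (W Z : Set X) ⊆ Z := fun Z x hx => by
    by_contra h
    exact hx (Set.mem_biUnion (x := irreducibleComponent x)
      ⟨irreducibleComponent_mem_irreducibleComponents x, fun e => h (e ▸ mem_irreducibleComponent)⟩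
      mem_irreducibleComponent)
  refine ⟨W '' {Z | Z ∈ irreducibleComponents X ∧ (W Z : Set X).Nonempty}, (hfin.subset fun Z h => h.1).image _, ?_,
    fun O hO => ?_⟩
  · rintro - ⟨Z, ⟨hZ, hne⟩, rfl⟩
    exact ⟨hZ.1.2.open_subset (W Z).isOpen (hsub Z), hne⟩
  · obtain ⟨x, hx⟩ := hO
    obtain ⟨Z, hZ, hxZ⟩ : ∃ Z ∈ irreducibleComponents X, x ∈ Z :=
      ⟨_, irreducibleComponent_mem_irreducibleComponents x, mem_irreducibleComponent⟩
    obtain ⟨η, hη⟩ := QuasiSober.sober hZ.1 (isClosed_of_mem_irreducibleComponents Z hZ)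
    have hηO : η ∈ O := (hη.specializes hxZ).mem_open O.isOpen hx
    have hηW : η ∈ W Z := fun h => by
      obtain ⟨Z', ⟨hZ', hne⟩, hηZ'⟩ := Set.mem_iUnion₂.1 h
      exact hne (le_antisymm (hZ.2 hZ'.1 ((show closure ({η} : Set X) = Z from hη) ▸ closure_minimal (Set.singleton_subset_iff.2 hηZ')
        (isClosed_of_mem_irreducibleComponents Z' hZ')))
        ((show closure ({η} : Set X) = Z from hη) ▸ closure_minimal (Set.singleton_subset_iff.2 hηZ')
          (isClosed_of_mem_irreducibleComponents Z' hZ')))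
    exact ⟨W Z, ⟨Z, ⟨hZ, η, hηW⟩, rfl⟩, η, hηO, hηW⟩

/-- The global sections of constant sheaves with finite values are finite. -/
theorem finite_H0_const (M : Type) [AddCommGroup M] [Finite M] : Finite (EtCoh.H X (EtCoh.const X M) 0) := by
  let A : AddCommGrpCat.{u + 1} := AddCommGrpCat.of (ULift.{u + 1} M)
  haveI : Finite A := inferInstanceAs (Finite (ULift.{u + 1} M))
  obtain ⟨S, hS, hirr, hmeet⟩ := exists_irreducible_opens X
  haveI := hS.to_subtype
  have hW : ∀ (W : S) (s : (EtCoh.const X M).obj.obj (op (EtCoh.top X))),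
      ∃ a : A, (EtCoh.const X M).obj.map (oTop W.1).op s = cst A (oE W.1) a := fun W s => by
    haveI : PreirreducibleSpace (oE W.1).left := Subtype.preirreducibleSpace (hirr W.1 W.2).1
    haveI : Nonempty (oE W.1).left := (hirr W.1 W.2).2.to_subtype
    exact exists_eq_cst A (oE W.1) _
  choose φ hφ using hW
  refine Finite.of_injective (fun x W => φ W (Groth.L27.LimCoh.secEq (EtCoh.const X M) x) : _ → (S → A))
    fun x y hxy => (Groth.L27.LimCoh.secEq (EtCoh.const X M)).injective ?_
  refine Groth.L27.EtSite.ext_of_locally (EtCoh.const X M) fun z => ?_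
  obtain ⟨V₁, g₁, v₁, a, hv₁, e₁⟩ := exists_locally_cst A (U := EtCoh.top X) (Groth.L27.LimCoh.secEq (EtCoh.const X M) x) z
  obtain ⟨V₂, g₂, v₂, b, hv₂, e₂⟩ := exists_locally_cst A (U := EtCoh.top X) (Groth.L27.LimCoh.secEq (EtCoh.const X M) y) z
  obtain ⟨V, p, q, v, hp, -, hpq⟩ := Groth.L27.EtSite.exists_common g₁ g₂ v₁ v₂ (hv₁.trans hv₂.symm)
  let g := p ≫ g₁
  have ex : (EtCoh.const X M).obj.map g.op (Groth.L27.LimCoh.secEq _ x) = cst A V a := by
    rw [op_comp, Functor.map_comp_apply, show (EtCoh.const X M).obj.map g₁.op _ = _ from e₁]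
    exact map_cst A p a
  have ey : (EtCoh.const X M).obj.map g.op (Groth.L27.LimCoh.secEq _ y) = cst A V b := by
    rw [show g = q ≫ g₂ from hpq, op_comp, Functor.map_comp_apply, show (EtCoh.const X M).obj.map g₂.op _ = _ from e₂]
    exact map_cst A q b
  refine ⟨V, g, v, (congrArg g₁.left.base hp).trans hv₁, ex.trans (Eq.trans (congrArg _ ?_) ey.symm)⟩
  haveI : AlgebraicGeometry.Etale g.left := Groth.L27.EtSite.etale_left g
  obtain ⟨W, hWS, η, ⟨t, ht⟩, hηW⟩ := hmeet ⟨Set.range g.left.base, g.left.isOpenMap.isOpen_range⟩ ⟨_, v, rfl⟩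
  obtain ⟨T, r, s, w, -, -, hrs⟩ := Groth.L27.EtSite.exists_common g (oTop W) t ⟨η, hηW⟩ (ht.trans (by
    have e := MorphismProperty.Over.w (oTop W)
    exact congrArg (fun m : (oE W).left ⟶ X => m.base (⟨η, hηW⟩ : W)) e.symm))
  haveI : Nonempty T.left := ⟨w⟩
  refine Groth.L27.ConstSect.cst_injective A T ?_
  rw [← map_cst A r a, ← map_cst A r b, ← ex, ← ey, ← Functor.map_comp_apply, ← Functor.map_comp_apply,
    ← op_comp, hrs, op_comp, Functor.map_comp_apply, Functor.map_comp_apply, hφ ⟨W, hWS⟩, hφ ⟨W, hWS⟩]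
  exact congrArg (fun c : A => (EtCoh.const X M).obj.map s.op (cst A (oE W) c)) (congrFun hxy ⟨W, hWS⟩)

/-- Finiteness of cohomology is inherited by finite biproducts. -/
theorem finite_H_biproduct {Y : Scheme.{u}} {ι : Type} [Finite ι] (G : ι → EtCoh.Ab Y) [HasBiproduct G] (q : ℕ)
    (h : ∀ i, Finite (EtCoh.H Y (G i) q)) : Finite (EtCoh.H Y (⨁ G) q) := by
  haveI : ∀ i, Finite ↥((EtCoh.HF Y q).obj (G i)) := h
  classical
  haveI := Fintype.ofFinite ι
  haveI : (EtCoh.HF Y q).Additive := ⟨fun {A B} {a b} => by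
    refine AddCommGrpCat.ext fun e => ?_
    show _ = (EtCoh.HF Y q).map a e + (EtCoh.HF Y q).map b e
    rw [Groth.L27.EtSite.HF_map_apply, Groth.L27.EtSite.HF_map_apply,
      Groth.L27.EtSite.HF_map_apply, Abelian.Ext.mk₀_add, Abelian.Ext.comp_add]
    rfl⟩
  refine Finite.of_injective (fun z i => (EtCoh.HF Y q).map (biproduct.π G i) z : _ → ∀ i, EtCoh.H Y (G i) q)
    fun z z' h => ?_
  have key : ∀ z : EtCoh.H Y (⨁ G) q, z = ∑ i, (EtCoh.HF Y q).map (biproduct.ι G i) ((EtCoh.HF Y q).map (biproduct.π G i) z) := fun z => by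
    have e := congrArg (fun f => (EtCoh.HF Y q).map f) (biproduct.total (f := G))
    simp only [Functor.map_sum, Functor.map_comp, CategoryTheory.Functor.map_id] at e
    let ev : ((EtCoh.HF Y q).obj (⨁ G) ⟶ (EtCoh.HF Y q).obj (⨁ G)) →+ EtCoh.H Y (⨁ G) q :=
      AddMonoidHom.mk' (fun f => f z) fun _ _ => rfl
    exact (congrArg ev e).symm.trans (map_sum ev _ _)
  rw [key z, key z']
  exact Finset.sum_congr rfl fun i _ => congrArg _ (congrFun h i)

/-- The global sections of a constructible sheaf are finite. -/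
theorem finite_H0 (F : EtCoh.Ab X) (hF : EtPBC.IsConstructible F) : Finite (EtCoh.H X F 0) := by
  obtain ⟨n, Y, f, hf, hp, M, _, hM, h⟩ := Groth.Agent.S0144.result X F hF
  obtain ⟨ι, hι⟩ := h
  haveI : ∀ i, Finite (EtCoh.H X ((EtCoh.push (f i)).obj (EtCoh.const (Y i) (M i))) 0) := fun i => by
    haveI := hf i
    haveI := hp i
    haveI := hM i
    haveI : IsLocallyNoetherian (Y i) := LocallyOfFiniteType.isLocallyNoetherian (f i)
    haveI : CompactSpace ↥(Y i) := QuasiCompact.compactSpace_of_compactSpace (f i)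
    haveI : AlgebraicGeometry.IsNoetherian (Y i) := {}
    haveI := finite_H0_const (Y i) (M i)
    haveI := Groth.L27.EtSite.preservesFiniteLimits_pull (f i)
    exact Finite.of_injective _ (Groth.L27.EtSite.bijective_HofPush (f i) (EtCoh.const (Y i) (M i)) (fun r hr =>
      Groth.L27.EtSite.isZero_Rpush_of_propB (f i) (Groth.L27.EtSite.propB_of_isIntegralHom (f i)) _ r hr) 0).1
  haveI := finite_H_biproduct (fun i => (EtCoh.push (f i)).obj (EtCoh.const (Y i) (M i))) 0 this
  haveI := hι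
  haveI : Finite ↥((EtCoh.HF X 0).obj (⨁ fun i => (EtCoh.push (f i)).obj (EtCoh.const (Y i) (M i)))) := ‹Finite (EtCoh.H X (⨁ _) 0)›
  refine Finite.of_injective ((EtCoh.HF X 0).map ι) ((injective_iff_map_eq_zero _).2 fun x hx => ?_)
  obtain ⟨a, rfl⟩ := (Abelian.Ext.mk₀_bijective _ _).2 x
  have hx' := (Groth.L27.EtSite.HF_map_apply ι 0 _).symm.trans hx
  rw [Abelian.Ext.mk₀_comp_mk₀] at hx'
  replace hx := hx'
  rw [zero_of_comp_mono ι ((Abelian.Ext.mk₀_bijective _ _).1 (hx.trans (Abelian.Ext.mk₀_zero _ _).symm))]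
  exact Abelian.Ext.mk₀_zero _ _

end Groth.L21.CurveFin
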