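import Groth.Agent.L21.CurveFin.H0
import Groth.Agent.L27.PBC.CurveConst
import Groth.Agent.L28.CurveCd.GenIso
import Groth.Agent.L27.EtSite.PushFinite

/-!
# Finiteness of cohomology along exact sequences
-/

set_option autoImplicit false
set_option linter.style.haveILetI false
set_option linter.unusedSectionVars false
set_option backward.isDefEq.respectTransparency.types false

universe u

open CategoryTheory CategoryTheory.Limits AlgebraicGeometry Opposite CategoryTheory.Abelian

noncomputable section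

namespace Groth.L21.CurveFin

open Groth.L27.PBC (liftHom cMap const_additive)

/-- The middle of an exact pair of maps is finite when the outer groups are. -/
theorem finite_of_exact {A B C : Type*} [AddCommGroup A] [AddCommGroup B] [AddCommGroup C] [Finite A] [Finite C]
    (f : A → B) (g : B →+ C) (h : ∀ b, g b = 0 → ∃ a, f a = b) : Finite B := by
  haveI : Finite g.ker := (((Set.finite_range f).subset fun b (hb : g b = 0) => h b hb) : (g.ker : Set B).Finite).to_subtype
  haveI : Finite (B ⧸ g.ker) := Finite.of_equiv _ (QuotientAddGroup.quotientKerEquivRange g).toEquiv.symm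
  exact Finite.of_equiv _ (AddSubgroup.addGroupEquivQuotientProdAddSubgroup (s := g.ker)).symm

variable {X : Scheme.{u}}

theorem finite_H_of_iso {F G : EtCoh.Ab X} (e : F ≅ G) (q : ℕ) (h : Finite (EtCoh.H X F q)) :
    Finite (EtCoh.H X G q) :=
  haveI : Finite ↥((EtCoh.HF X q).obj F) := h
  Finite.of_equiv _ ((EtCoh.HF X q).mapIso e).addCommGroupIsoToAddEquiv.toEquiv

theorem finite_H_of_isZero {F : EtCoh.Ab X} (h : IsZero F) (q : ℕ) : Finite (EtCoh.H X F q) :=
  haveI : Subsingleton (EtCoh.H X F q) := AddCommGrpCat.subsingleton_of_isZero ((EtCoh.HF X q).map_isZero h)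
  inferInstance

variable {S : ShortComplex (EtCoh.Ab X)} (hS : S.ShortExact)

include hS

theorem finite_middle (q : ℕ) (h₁ : Finite (EtCoh.H X S.X₁ q)) (h₃ : Finite (EtCoh.H X S.X₃ q)) :
    Finite (EtCoh.H X S.X₂ q) := by
  haveI : Finite ↥((EtCoh.HF X q).obj S.X₁) := h₁
  haveI : Finite ↥((EtCoh.HF X q).obj S.X₃) := h₃
  exact finite_of_exact (B := EtCoh.H X S.X₂ q) ((EtCoh.HF X q).map S.f) ((EtCoh.HF X q).map S.g).hom fun b hb => by
    obtain ⟨a, ha⟩ := Ext.covariant_sequence_exact₂ _ hS b ((Groth.L27.EtSite.HF_map_apply S.g q b).symm.trans hb)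
    exact ⟨a, (Groth.L27.EtSite.HF_map_apply S.f q a).trans ha⟩

theorem finite_left_zero (h₂ : Finite (EtCoh.H X S.X₂ 0)) : Finite (EtCoh.H X S.X₁ 0) := by
  haveI := hS.mono_f
  haveI : Finite ↥((EtCoh.HF X 0).obj S.X₂) := h₂
  refine Finite.of_injective ((EtCoh.HF X 0).map S.f) ((injective_iff_map_eq_zero _).2 fun x hx => ?_)
  obtain ⟨a, rfl⟩ := (Ext.mk₀_bijective _ _).2 x
  have hx' := (Groth.L27.EtSite.HF_map_apply S.f 0 _).symm.trans hx
  rw [Ext.mk₀_comp_mk₀] at hx'
  rw [zero_of_comp_mono S.f ((Ext.mk₀_bijective _ _).1 (hx'.trans (Ext.mk₀_zero _ _).symm))]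
  exact Ext.mk₀_zero _ _

theorem finite_left (q : ℕ) (h₃ : Finite (EtCoh.H X S.X₃ q)) (h₂ : Finite (EtCoh.H X S.X₂ (q + 1))) :
    Finite (EtCoh.H X S.X₁ (q + 1)) := by
  haveI : Finite ↥((EtCoh.HF X q).obj S.X₃) := h₃
  haveI : Finite ↥((EtCoh.HF X (q + 1)).obj S.X₂) := h₂
  exact finite_of_exact (A := EtCoh.H X S.X₃ q) (B := EtCoh.H X S.X₁ (q + 1))
    (fun a => Ext.comp a hS.extClass (rfl : q + 1 = q + 1)) ((EtCoh.HF X (q + 1)).map S.f).hom fun b hb =>
    Ext.covariant_sequence_exact₁ _ hS b ((Groth.L27.EtSite.HF_map_apply S.f (q + 1) b).symm.trans hb) rfl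

omit hS

/-- Finiteness transfers along a morphism whose kernel and cokernel have finite cohomology. -/
theorem finite_H_of_ker_coker {F G : EtCoh.Ab X} (φ : F ⟶ G)
    (hK : ∀ q, Finite (EtCoh.H X (kernel φ) q)) (hC : ∀ q, Finite (EtCoh.H X (cokernel φ) q))
    (hG : ∀ q, Finite (EtCoh.H X G q)) (q : ℕ) : Finite (EtCoh.H X F q) := by
  let E₁ : ShortComplex (EtCoh.Ab X) := ShortComplex.mk (kernel.ι φ) (Abelian.factorThruImage φ)
    (by rw [← cancel_mono (Abelian.image.ι φ), Category.assoc, Abelian.image.fac, kernel.condition, zero_comp])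
  haveI : Mono E₁.f := inferInstanceAs (Mono (kernel.ι φ))
  haveI : Epi E₁.g := inferInstanceAs (Epi (Abelian.factorThruImage φ))
  have hE₁ : E₁.ShortExact :=
    { exact := ShortComplex.exact_of_f_is_kernel _ (KernelFork.IsLimit.ofι' _ E₁.zero fun {A} a ha =>
        ⟨kernel.lift φ a (by rw [← Abelian.image.fac φ, ← Category.assoc, ha, zero_comp]), kernel.lift_ι _ _ _⟩) }
  let E₂ : ShortComplex (EtCoh.Ab X) := ShortComplex.mk (Abelian.image.ι φ) (cokernel.π φ) (kernel.condition _)
  have hE₂ : E₂.ShortExact :=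
    { exact := ShortComplex.exact_of_f_is_kernel _ (kernelIsKernel _)
      mono_f := inferInstanceAs (Mono (Abelian.image.ι φ))
      epi_g := inferInstanceAs (Epi (cokernel.π φ)) }
  refine finite_middle hE₁ q (hK q) ?_
  rcases q with _ | q
  · exact finite_left_zero hE₂ (hG 0)
  · exact finite_left hE₂ q (hC q) (hG (q + 1))

/-- Finiteness for constant sheaves reduces to cyclic groups of prime order. -/
theorem finite_H_const_of_primes (X : Scheme.{u}) (G : ℕ → Prop)
    (h : ∀ p : ℕ, p.Prime → G p → ∀ q, Finite (EtCoh.H X (EtCoh.const X (ZMod p)) q))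
    (M : Type) [AddCommGroup M] [Finite M] (hM : ∀ p : ℕ, p.Prime → p ∣ Nat.card M → G p) (q : ℕ) :
    Finite (EtCoh.H X (EtCoh.const X M) q) := by
  have hpow : ∀ p : ℕ, p.Prime → ∀ e : ℕ, (e ≠ 0 → G p) → Finite (EtCoh.H X (EtCoh.const X (ZMod (p ^ e))) q) :=
    fun p hp e => by
      induction e with
      | zero =>
        intro _
        haveI := const_additive X
        haveI : Subsingleton (AddCommGrpCat.of (ULift.{u + 1} (ZMod (p ^ 0)))) := by
          haveI : Subsingleton (ZMod (p ^ 0)) := by rw [pow_zero]; infer_instance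
          exact inferInstanceAs (Subsingleton (ULift.{u + 1} (ZMod (p ^ 0))))
        exact finite_H_of_isZero ((constantSheaf X.smallEtaleTopology AddCommGrpCat.{u + 1}).map_isZero
          (AddCommGrpCat.isZero_of_subsingleton _)) q
      | succ e ih =>
        intro hG
        obtain ⟨a, b, w, hS⟩ := Groth.L27.PBC.exists_shortExact_pPow p e hp.ne_zero X
        exact finite_middle hS q (ih fun _ => hG e.succ_ne_zero) (h p hp (hG e.succ_ne_zero) q)
  classical
  obtain ⟨ι₀, _, p, hp, e, ⟨ε⟩⟩ := AddCommGroup.equiv_directSum_zmod_of_finite M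
  let π : ∀ j, M →+ ZMod (p j ^ e j) := fun j => (DFinsupp.evalAddMonoidHom j).comp ε.toAddMonoidHom
  have hπ : ∀ j, Function.Surjective (π j) := fun j z =>
    ⟨ε.symm (DirectSum.of (fun j => ZMod (p j ^ e j)) j z), by
      show DFinsupp.evalAddMonoidHom j (ε (ε.symm _)) = z
      rw [ε.apply_symm_apply]
      exact DirectSum.of_eq_same (β := fun j => ZMod (p j ^ e j)) j z⟩
  haveI hfin : ∀ j, Finite ↥((EtCoh.HF X q).obj (EtCoh.const X (ZMod (p j ^ e j)))) := fun j =>
    hpow (p j) (hp j) (e j) fun he => hM (p j) (hp j) ((dvd_pow_self (p j) he).trans (by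
      have := AddSubgroup.card_dvd_of_surjective (π j) (hπ j)
      rwa [Nat.card_zmod] at this))
  let κ : ∀ j, ZMod (p j ^ e j) →+ M := fun j => ε.symm.toAddMonoidHom.comp (DirectSum.of (fun j => ZMod (p j ^ e j)) j)
  have hid : ∑ j, liftHom.{u} (π j) ≫ liftHom (κ j) = 𝟙 _ := by
    refine ConcreteCategory.hom_ext _ _ fun m => (Groth.L27.PBC.hom_sum_apply _ _ m).trans ?_
    obtain ⟨m⟩ := m
    refine ULift.ext _ _ (ε.injective ?_)
    refine Eq.trans (congrArg ε (map_sum (AddEquiv.ulift : ULift.{u + 1} M ≃+ M) _ _)) ?_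
    rw [map_sum]
    refine Eq.trans ?_ (DirectSum.sum_univ_of (ε m))
    exact Finset.sum_congr rfl fun j _ => ε.apply_symm_apply _
  haveI := const_additive X
  haveI := Groth.L28.CurveCd.HF_additive X q
  have key : ∀ z : EtCoh.H X (EtCoh.const X M) q,
      z = ∑ j, (EtCoh.HF X q).map (cMap X (κ j)) ((EtCoh.HF X q).map (cMap X (π j)) z) := fun z => by
    have e := congrArg (fun f => (EtCoh.HF X q).map ((constantSheaf X.smallEtaleTopology AddCommGrpCat.{u + 1}).map f)) hid
    simp only [Functor.map_sum, Functor.map_comp, CategoryTheory.Functor.map_id] at e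
    let ev : ((EtCoh.HF X q).obj (EtCoh.const X M) ⟶ (EtCoh.HF X q).obj (EtCoh.const X M)) →+
        EtCoh.H X (EtCoh.const X M) q := AddMonoidHom.mk' (fun f => f z) fun _ _ => rfl
    exact (congrArg ev e).symm.trans (map_sum ev _ _)
  exact Finite.of_injective
    (fun z j => (EtCoh.HF X q).map (cMap X (π j)) z : _ → ∀ j, ↥((EtCoh.HF X q).obj (EtCoh.const X (ZMod (p j ^ e j)))))
    fun z z' hz => by
      rw [key z, key z']
      exact Finset.sum_congr rfl fun j _ => congrArg _ (congrFun hz j)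

/-- The cohomology of a finite direct image is that of the source. -/
theorem finite_H_push {Y : Scheme.{u}} (f : Y ⟶ X) [IsFinite f] (F : EtCoh.Ab Y) (q : ℕ)
    (h : Finite (EtCoh.H Y F q)) : Finite (EtCoh.H X ((EtCoh.push f).obj F) q) := by
  haveI := h
  haveI := Groth.L27.EtSite.preservesFiniteLimits_pull f
  exact Finite.of_injective _ (Groth.L27.EtSite.bijective_HofPush f F (fun r hr =>
    Groth.L27.EtSite.isZero_Rpush_of_propB f (Groth.L27.EtSite.propB_of_isIntegralHom f) _ r hr) q).1

/-- Constant sheaves are constructible. -/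
theorem isConstructible_const (X : Scheme.{u}) (M : Type) [AddCommGroup M] [Finite M] :
    EtPBC.IsConstructible (EtCoh.const X M) := by
  intro U _
  refine ⟨1, fun _ => U.toScheme, fun _ => U.ι, fun _ => inferInstance, fun _ => ?_, ?_, ?_, fun _ => ?_⟩
  · rw [U.range_ι, Subtype.coe_preimage_self]
    exact .univ
  · exact fun i j hij => absurd (Subsingleton.elim i j) hij
  · exact (Set.iUnion_const _).trans U.range_ι
  · intro _
    exact Groth.L28.Strata.isFLC_of_iso (EtCore.pullConst U.ι M).symm (Groth.L28.ExtShriek.isFLC_const _ M)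

end Groth.L21.CurveFin
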