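import Groth.Agent.L21.CurveFin.Exact
import Groth.Agent.L21.AffCd.Birational
import Groth.Agent.L21.AffCd.PointInduction
import Groth.Agent.L28.AcyComp.Iso
import Groth.Agent.L18.AffineDimOne
import Groth.Agent.S0137
import Groth.Agent.S0659
import Mathlib.RingTheory.Spectrum.Prime.Topology

/-!
# Finiteness of the cohomology of constants on curves
-/

set_option autoImplicit false
set_option linter.style.haveILetI false
set_option linter.unusedSectionVars false
set_option backward.isDefEq.respectTransparency false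
set_option backward.isDefEq.respectTransparency.types false

universe u

open CategoryTheory CategoryTheory.Limits AlgebraicGeometry Opposite TopologicalSpace

noncomputable section

namespace Groth.L21.CurveFin

variable {k : Type u} [Field k] [IsAlgClosed k]

/-- Cohomology of a constructible sheaf with finitely many points in the support. -/
theorem finite_H_of_supp_closed {X : Scheme.{u}} (f : X ⟶ Spec (CommRingCat.of k)) [LocallyOfFiniteType f]
    [QuasiCompact f] {F : EtCoh.Ab X} (hF : EtPBC.IsConstructible F)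
    (hsupp : ∀ y ∈ EtPBC.supp F, IsClosed ({y} : Set X)) (q : ℕ) : Finite (EtCoh.H X F q) := by
  haveI : IsLocallyNoetherian X := LocallyOfFiniteType.isLocallyNoetherian f
  haveI : CompactSpace ↥X := QuasiCompact.compactSpace_of_compactSpace f
  haveI : AlgebraicGeometry.IsNoetherian X := {}
  rcases q with _ | q
  · exact finite_H0 X F hF
  · haveI := Groth.L28.CurveCd.subsingleton_H_of_supp_closed f F hsupp q
    infer_instance

/-- Finiteness is insensitive to changes at closed points. -/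
theorem finite_H_of_generic {X : Scheme.{u}} (f : X ⟶ Spec (CommRingCat.of k)) [LocallyOfFiniteType f]
    [QuasiCompact f] {F G : EtCoh.Ab X} (φ : F ⟶ G) (hF : EtPBC.IsConstructible F) (hG : EtPBC.IsConstructible G)
    (hgen : ∀ (Ω : Type u) [Field Ω] [IsSepClosed Ω] (ξ : Spec (CommRingCat.of Ω) ⟶ X),
      ¬ IsClosed ({ξ.base default} : Set X) → Function.Bijective ((EtCoh.stalk ξ).map φ))
    (h : ∀ q, Finite (EtCoh.H X G q)) (q : ℕ) : Finite (EtCoh.H X F q) := by
  haveI : IsLocallyNoetherian X := LocallyOfFiniteType.isLocallyNoetherian f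
  haveI : CompactSpace ↥X := QuasiCompact.compactSpace_of_compactSpace f
  haveI : AlgebraicGeometry.IsNoetherian X := {}
  obtain ⟨hK, hC⟩ := Groth.L28.Strata.isConstructible_kernel_cokernel φ hF hG
  refine finite_H_of_ker_coker φ (fun q => ?_) (fun q => ?_) h q
  · rcases q with _ | q
    · exact finite_H0 X _ hK
    · haveI := (Groth.L28.CurveCd.acyclic_ker_coker_of_nonclosed f φ hgen q).1
      infer_instance
  · rcases q with _ | q
    · exact finite_H0 X _ hC
    · haveI := (Groth.L28.CurveCd.acyclic_ker_coker_of_nonclosed f φ hgen q).2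
      infer_instance

/-- Constants on a normal affine curve. -/
theorem finite_H_const_normal (n : ℕ) [NeZero n] (hn : (n : k) ≠ 0) (B : Type u) [CommRing B] [IsDomain B]
    [IsIntegrallyClosed B] (h : Spec (CommRingCat.of B) ⟶ Spec (CommRingCat.of k)) [LocallyOfFiniteType h]
    (hdim : topologicalKrullDim ↥(Spec (CommRingCat.of B)) ≤ 1) (q : ℕ) :
    Finite (EtCoh.H (Spec (CommRingCat.of B)) (EtCoh.const _ (ZMod n)) q) := by
  haveI : QuasiCompact h := inferInstance
  haveI : IsLocallyNoetherian (Spec (CommRingCat.of B)) := LocallyOfFiniteType.isLocallyNoetherian h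
  haveI : AlgebraicGeometry.IsNoetherian (Spec (CommRingCat.of B)) := {}
  rcases q with _ | q
  · exact finite_H0_const _ (ZMod n)
  by_cases hd : topologicalKrullDim ↥(Spec (CommRingCat.of B)) = 1
  · have hN := Groth.L21.AffCd.isNormalScheme_Spec B
    obtain ⟨e⟩ := Groth.L21.CurveKummer.nonempty_const_iso_mu h n hn
    rcases q with _ | q
    · obtain ⟨Xb, p, j, hj, hXb, hjp, P, hP, hPc⟩ := Groth.L21.AffCd.exists_completion h hd hN
      letI : Xb.Over (Spec (CommRingCat.of k)) := ⟨p⟩
      obtain ⟨hp, hs, hi, hd1⟩ := id hXb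
      haveI := hp; haveI := hi
      haveI : IsLocallyNoetherian Xb := LocallyOfFiniteType.isLocallyNoetherian p
      haveI : CompactSpace ↥Xb := QuasiCompact.compactSpace_of_compactSpace p
      haveI : AlgebraicGeometry.IsNoetherian Xb := {}
      let U₀ := j.opensRange
      have hne : ((U₀ : Set Xb)ᶜ) ≠ Set.univ := fun he => by
        have hmem : j.base (Classical.arbitrary _) ∈ (U₀ : Set Xb) := ⟨_, rfl⟩
        exact (he ▸ Set.mem_univ (j.base (Classical.arbitrary _)) : j.base _ ∈ (U₀ : Set Xb)ᶜ) hmem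
      have hfin := (Groth.L21.CurveTop.finite_of_isClosed hd1.le U₀.isOpen.isClosed_compl hne).1
      have hpos : 0 < ((U₀ : Set Xb)ᶜ).ncard := (Set.ncard_pos hfin).2 ⟨P, fun hm => hP hm⟩
      obtain ⟨r, hr⟩ : ∃ r, ((U₀ : Set Xb)ᶜ).ncard = r + 1 := ⟨_, (Nat.succ_pred_eq_of_pos hpos).symm⟩
      obtain ⟨a⟩ := Groth.L21.AffCd.nonempty_H1_open k hXb n hn r U₀ hfin hr
      haveI : Finite (EtCoh.H (↑U₀ : Scheme.{u}) (EtCoh.const _ (ZMod n)) 1) := Finite.of_equiv _ a.toEquiv.symm
      haveI := Groth.L27.EtSite.preservesFiniteLimits_pull j.isoOpensRange.hom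
      have hb := Groth.L28.AcyComp.bijective_Hpull j.isoOpensRange.hom (EtCoh.const _ (ZMod n)) 1
      exact finite_H_of_iso (EtCore.pullConst j.isoOpensRange.hom (ZMod n)) 1 (Finite.of_surjective _ hb.2)
    · haveI := Groth.L21.AffCd.subsingleton_Hge2_mu h hdim n (NeZero.pos n) (q + 1 + 1) (by omega)
      exact finite_H_of_iso e.symm _ inferInstance
  · refine finite_H_of_supp_closed h (isConstructible_const _ _) (fun y _ => ?_) (q + 1)
    by_contra hy
    refine hd (le_antisymm hdim ?_)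
    exact Groth.L05.PtSeq.one_le_dim fun hc => hy (by
      rcases eq_or_ne y (genericPoint ↥(Spec (CommRingCat.of B))) with rfl | hne
      · exact hc
      · exact (Groth.L28.CurveCd.isClosed_or_maximal hdim y).resolve_right fun hm =>
          hne (hm _ (genericPoint_specializes y)).symm)

open Groth.L21.AffCd (normMap normRing constRes) in
/-- Constants on an affine curve. -/
theorem finite_H_const_affine (n : ℕ) [NeZero n] (hn : (n : k) ≠ 0) {Y : Scheme.{u}} [IsAffine Y]
    (g : Y ⟶ Spec (CommRingCat.of k)) [LocallyOfFiniteType g] (hdim : topologicalKrullDim Y ≤ 1) (q : ℕ) :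
    Finite (EtCoh.H Y (EtCoh.const Y (ZMod n)) q) := by
  haveI : QuasiCompact g := inferInstance
  haveI : IsLocallyNoetherian Y := LocallyOfFiniteType.isLocallyNoetherian g
  haveI := Groth.L28.CurveCd.finite_not_closed (X := Y) hdim
  haveI := Fintype.ofFinite {x : Y // ¬ IsClosed ({x} : Set Y)}
  classical
  haveI : ∀ x : Y, IsFinite (normMap x) := Groth.L21.AffCd.isFinite_normMap g
  let G := fun x : {x : Y // ¬ IsClosed ({x} : Set Y)} =>
    (EtCoh.push (normMap x.1)).obj (EtCoh.const (Spec (CommRingCat.of ↥(normRing x.1))) (ZMod n))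
  haveI : HasBiproduct G := HasBiproductsOfShape.has_biproduct _
  let eI := (Fintype.equivFin {x : Y // ¬ IsClosed ({x} : Set Y)}).symm
  haveI : HasBiproduct (G ∘ eI) := HasBiproductsOfShape.has_biproduct _
  let eG : ⨁ (G ∘ eI) ≅ ⨁ G :=
    (biproduct.uniqueUpToIso (G ∘ eI) ((Bicone.whiskerIsBilimitIff _ eI).2 (biproduct.isBilimit G))).symm
  have hGc : EtPBC.IsConstructible (⨁ G) := by
    refine Groth.L28.ExtShriek.isConstructible_of_iso eG
      (Groth.L28.ExtShriek.isConstructible_biproduct _ fun i => ?_)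
    haveI : LocallyOfFinitePresentation (normMap (eI i).1) := inferInstance
    exact Groth.Agent.S0137.result _ _ (isConstructible_const _ _)
  have hGf : ∀ q, Finite (EtCoh.H Y (⨁ G) q) := fun q => by
    refine finite_H_of_iso eG q (finite_H_biproduct _ q fun i => ?_)
    refine finite_H_push (normMap (eI i).1) _ q ?_
    haveI : LocallyOfFiniteType (normMap (eI i).1 ≫ g) := inferInstance
    haveI : IsIntegrallyClosed ↥(normRing (eI i).1) :=
      integralClosure.isIntegrallyClosedOfFiniteExtension (FractionRing (Γ(Y, ⊤) ⧸ Groth.L21.AffCd.primeOf (eI i).1))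
    exact finite_H_const_normal n hn ↥(normRing (eI i).1) (normMap (eI i).1 ≫ g)
      ((Groth.L19.topologicalKrullDim_le_of_isIntegralHom (normMap (eI i).1)).trans hdim) q
  let φ : EtCoh.const Y (ZMod n) ⟶ ⨁ G := biproduct.lift fun x => constRes (normMap x.1) (ZMod n)
  refine finite_H_of_generic g φ (isConstructible_const _ _) hGc (fun Ω _ _ ξ hc => ?_) hGf q
  refine Groth.L28.CurveCd.bijective_stalk_lift G _ ξ ⟨_, hc⟩ (fun x hne => ?_) ?_
  · refine Groth.L28.CurveCd.isZero_stalk_push_closure _ _ ξ fun hm => ?_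
    exact Groth.L28.CurveCd.not_specializes hdim hc (fun e => hne (Subtype.ext e.symm))
      (closure_minimal (Groth.L21.AffCd.range_normMap x.1) isClosed_closure hm)
  · let ξ' : Spec (CommRingCat.of (AlgebraicClosure Ω)) ⟶ Y :=
      Spec.map (CommRingCat.ofHom (algebraMap Ω (AlgebraicClosure Ω))) ≫ ξ
    have hp : ξ'.base default = ξ.base default :=
      (Scheme.Hom.comp_apply _ _ _).trans (congrArg ξ.base (Subsingleton.elim _ _))
    exact Groth.L21.AffCd.bijective_stalk_of_point _ ξ ξ' hp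
      (Groth.L21.AffCd.bijective_stalk_constRes (normMap _) (ZMod n) ξ' (Groth.L21.AffCd.existsUnique_lift _ ξ' hp))

omit [IsAlgClosed k] in
/-- An open subset of an affine curve is affine. -/
theorem isAffineOpen_of_affine_curve {Y : Scheme.{u}} [IsAffine Y] (g : Y ⟶ Spec (CommRingCat.of k))
    [LocallyOfFiniteType g] (hdim : topologicalKrullDim Y ≤ 1) (X : Y.Opens) : IsAffineOpen X := by
  haveI : IsLocallyNoetherian Y := LocallyOfFiniteType.isLocallyNoetherian g
  haveI : IsNoetherianRing Γ(Y, ⊤) := IsLocallyNoetherian.component_noetherian ⟨⊤, isAffineOpen_top Y⟩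
  have hd : topologicalKrullDim ↥(Spec Γ(Y, ⊤)) ≤ 1 := by
    rw [← IsHomeomorph.topologicalKrullDim_eq _ Y.isoSpec.hom.homeomorph.isHomeomorph]
    exact hdim
  refine Groth.L18.AffineDimOne.isAffineOpen_core Γ(Y, ⊤) ?_ Y.isoSpec.hom X fun t => ?_
  · rw [Ring.krullDimLE_iff]
    exact (PrimeSpectrum.topologicalKrullDim_eq_ringKrullDim Γ(Y, ⊤)).symm.le.trans hd
  · by_cases h : Y.isoSpec.inv.base t ∈ X
    · exact ⟨Set.univ, isClosed_univ, fun z hz => by
        rw [← hz, ← Scheme.Hom.comp_apply, Iso.hom_inv_id] at h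
        exact ⟨fun _ => trivial, fun _ => h⟩⟩
    · exact ⟨∅, isClosed_empty, fun z hz => by
        rw [← hz, ← Scheme.Hom.comp_apply, Iso.hom_inv_id] at h
        exact ⟨fun hzX => h hzX, fun hz => hz.elim⟩⟩

/-- Constants on curves covered by finitely many affines. -/
theorem finite_H_const_cover (n : ℕ) [NeZero n] (hn : (n : k) ≠ 0) : ∀ (m : ℕ) (Z : Scheme.{u})
    (g : Z ⟶ Spec (CommRingCat.of k)) [LocallyOfFiniteType g], topologicalKrullDim Z ≤ 1 →
    ∀ (U : Fin m → Z.Opens), (∀ i, IsAffineOpen (U i)) → (⨆ i, U i) = ⊤ →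
    ∀ q, Finite (EtCoh.H Z (EtCoh.const Z (ZMod n)) q) := by
  intro m
  induction m with
  | zero =>
    intro Z g _ _ U _ hU q
    haveI : IsEmpty Z := ⟨fun z => by
      obtain ⟨i, -⟩ := Opens.mem_iSup.1 (show z ∈ (⨆ i, U i) by rw [hU]; trivial)
      exact i.elim0⟩
    exact finite_H_of_isZero ((Groth.L27.EtSite.isZero_iff_stalks _).2 fun Ω _ _ ξ => isEmptyElim (ξ default)) q
  | succ m ih =>
    intro Z g _ hdim U hA hU
    let U₁ := U 0
    let V : Z.Opens := ⨆ i : Fin m, U i.succ
    have htop : U₁ ⊔ V = ⊤ := top_unique (hU.symm.le.trans (iSup_le fun i => by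
      refine Fin.cases ?_ ?_ i
      · exact le_sup_left
      · exact fun j => (le_iSup (fun i : Fin m => U i.succ) j).trans le_sup_right))
    have hdU : ∀ W : Z.Opens, topologicalKrullDim (↑W : Scheme.{u}) ≤ 1 := fun W =>
      W.ι.isOpenEmbedding.isEmbedding.isInducing.topologicalKrullDim_le.trans hdim
    haveI : IsAffine (↑U₁ : Scheme.{u}) := hA 0
    have hI : IsAffineOpen (U₁ ⊓ V) := by
      have h1 := isAffineOpen_of_affine_curve (U₁.ι ≫ g) (hdU U₁) (U₁.ι ⁻¹ᵁ (U₁ ⊓ V))
      have h2 := h1.image_of_isOpenImmersion U₁.ι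
      rwa [Scheme.Hom.image_preimage_eq_opensRange_inf, Scheme.Opens.opensRange_ι, inf_eq_right.2 inf_le_left] at h2
    haveI : IsAffine (↑(U₁ ⊓ V) : Scheme.{u}) := hI
    have hf1 : ∀ q, Finite (EtCoh.H ↑U₁ ((EtCoh.pull U₁.ι).obj (EtCoh.const Z (ZMod n))) q) := fun q =>
      finite_H_of_iso (EtCore.pullConst U₁.ι (ZMod n)).symm q (finite_H_const_affine n hn (U₁.ι ≫ g) (hdU U₁) q)
    have hf3 : ∀ q, Finite (EtCoh.H ↑(U₁ ⊓ V) ((EtCoh.pull (U₁ ⊓ V).ι).obj (EtCoh.const Z (ZMod n))) q) := fun q =>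
      finite_H_of_iso (EtCore.pullConst (U₁ ⊓ V).ι (ZMod n)).symm q
        (finite_H_const_affine n hn ((U₁ ⊓ V).ι ≫ g) (hdU _) q)
    have hf2 : ∀ q, Finite (EtCoh.H ↑V ((EtCoh.pull V.ι).obj (EtCoh.const Z (ZMod n))) q) := fun q =>
      finite_H_of_iso (EtCore.pullConst V.ι (ZMod n)).symm q
        (ih V (V.ι ≫ g) (hdU V) (fun i => V.ι ⁻¹ᵁ U i.succ)
          (fun i => (hA i.succ).preimage_of_isOpenImmersion V.ι (by
            rw [Scheme.Opens.opensRange_ι]; exact le_iSup (fun i : Fin m => U i.succ) i))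
          (top_unique fun z _ => by
            obtain ⟨i, hi⟩ := Opens.mem_iSup.1 z.2
            exact Opens.mem_iSup.2 ⟨i, hi⟩) q)
    haveI := Groth.L27.EtSite.preservesFiniteLimits_pull U₁.ι
    haveI := Groth.L27.EtSite.preservesFiniteLimits_pull V.ι
    haveI := Groth.L27.EtSite.preservesFiniteLimits_pull (Z.homOfLE (inf_le_left : U₁ ⊓ V ≤ U₁))
    haveI := Groth.L27.EtSite.preservesFiniteLimits_pull (Z.homOfLE (inf_le_right : U₁ ⊓ V ≤ V))
    obtain ⟨δ, h0, h1, -, -⟩ := Groth.Agent.S0659.result Z U₁ V htop (EtCoh.const Z (ZMod n))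
    intro q
    haveI := hf1 q; haveI := hf2 q
    rcases q with _ | q
    · exact Finite.of_injective _ ((AddMonoidHom.ker_eq_bot_iff _).1 h0)
    · haveI := hf3 q
      exact finite_of_exact (δ q) (AddMonoidHom.prod (EtCore.Hpull U₁.ι _ (q + 1)) (EtCore.Hpull V.ι _ (q + 1)))
        fun b hb => by
          have : b ∈ (δ q).range := h1 q ▸ hb
          exact this

/-- Constants on curves. -/
theorem finite_H_const (n : ℕ) [NeZero n] (hn : (n : k) ≠ 0) {Z : Scheme.{u}}
    (g : Z ⟶ Spec (CommRingCat.of k)) [LocallyOfFiniteType g] [QuasiCompact g] (hdim : topologicalKrullDim Z ≤ 1)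
    (q : ℕ) : Finite (EtCoh.H Z (EtCoh.const Z (ZMod n)) q) := by
  haveI : CompactSpace ↥Z := QuasiCompact.compactSpace_of_compactSpace g
  obtain ⟨s, hs, he⟩ := (isCompact_and_isOpen_iff_finite_and_eq_biUnion_affineOpens (U := (Set.univ : Set Z))).1
    ⟨isCompact_univ, isOpen_univ⟩
  haveI := hs.fintype
  let eI := (Fintype.equivFin s).symm
  refine finite_H_const_cover n hn (Fintype.card s) Z g hdim (fun i => ((eI i).1 : Z.affineOpens).1)
    (fun i => ((eI i).1).2) (top_unique fun z _ => ?_) q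
  obtain ⟨W, hW, hzW⟩ := Set.mem_iUnion₂.1 (he.subset (Set.mem_univ z))
  exact Opens.mem_iSup.2 ⟨eI.symm ⟨W, hW⟩, by simpa using hzW⟩

end Groth.L21.CurveFin
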