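import Groth.Agent.L21.CurveFin.Const
import Groth.Agent.L27.PBC.ModSquare
import Groth.Agent.S0204

/-!
# Surjectivity of restriction in top degree
-/

set_option autoImplicit false
set_option linter.style.haveILetI false
set_option linter.unusedSectionVars false
set_option backward.isDefEq.respectTransparency false
set_option backward.isDefEq.respectTransparency.types false

universe u

open CategoryTheory CategoryTheory.Limits AlgebraicGeometry Opposite TopologicalSpace

noncomputable section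

namespace Groth.L21.CurveFin

theorem surjective_HpullVia {A B C : Scheme.{u}} (a : A ⟶ B) (t : B ⟶ C) (f₀ : A ⟶ C) (w : a ≫ t = f₀)
    [PreservesFiniteLimits (EtCoh.pull a)] [PreservesFiniteLimits (EtCoh.pull t)] [PreservesFiniteLimits (EtCoh.pull f₀)]
    (F : EtCoh.Ab C) (n : ℕ) (ha : Function.Surjective (EtCore.Hpull a ((EtCoh.pull t).obj F) n))
    (ht : Function.Surjective (EtCore.Hpull t F n)) : Function.Surjective (EtCore.Hpull f₀ F n) := fun z => by
  obtain ⟨y, hy⟩ := (ConcreteCategory.bijective_of_isIso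
    ((EtCoh.HF A n).map (((EtCore.pullComp a t).symm ≪≫ EtCore.pullCongr w).app F).hom)).2 z
  obtain ⟨x, rfl⟩ := ha y
  obtain ⟨v, rfl⟩ := ht x
  exact ⟨v, (Groth.L27.ModSquare.HpullVia_Hpull a t f₀ w F n v).symm.trans hy⟩

variable {k : Type u} [Field k] [IsAlgClosed k]

/-- Second cohomology restricts surjectively to an open whose complement lies in an affine open. -/
theorem surjective_Hpull_two_step {Z : Scheme.{u}} (g : Z ⟶ Spec (CommRingCat.of k)) [LocallyOfFiniteType g]
    (hdim : topologicalKrullDim Z ≤ 1) (G : EtCoh.Ab Z) (hG : EtCoh.IsTorsion G) (U V : Z.Opens)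
    (hV : IsAffineOpen V) (htop : U ⊔ V = ⊤) [PreservesFiniteLimits (EtCoh.pull U.ι)] :
    Function.Surjective (EtCore.Hpull U.ι G 2) := by
  haveI : IsAffine (↑V : Scheme.{u}) := hV
  have hdU : ∀ W : Z.Opens, topologicalKrullDim (↑W : Scheme.{u}) ≤ 1 := fun W =>
    W.ι.isOpenEmbedding.isEmbedding.isInducing.topologicalKrullDim_le.trans hdim
  have hI : IsAffineOpen (U ⊓ V) := by
    have h1 := isAffineOpen_of_affine_curve (V.ι ≫ g) (hdU V) (V.ι ⁻¹ᵁ (U ⊓ V))
    have h2 := h1.image_of_isOpenImmersion V.ι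
    rwa [Scheme.Hom.image_preimage_eq_opensRange_inf, Scheme.Opens.opensRange_ι, inf_eq_right.2 inf_le_right] at h2
  haveI : IsAffine (↑(U ⊓ V) : Scheme.{u}) := hI
  haveI hsub : Subsingleton (EtCoh.H ↑(U ⊓ V) ((EtCoh.pull (U ⊓ V).ι).obj G) 2) :=
    Groth.Agent.S0204.result k ↑(U ⊓ V) ((U ⊓ V).ι ≫ g) (hdU _) _ (Groth.L28.CurveCd.isTorsion_pull _ hG) 2 one_lt_two
  haveI := Groth.L27.EtSite.preservesFiniteLimits_pull V.ι
  haveI := Groth.L27.EtSite.preservesFiniteLimits_pull (Z.homOfLE (inf_le_left : U ⊓ V ≤ U))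
  haveI := Groth.L27.EtSite.preservesFiniteLimits_pull (Z.homOfLE (inf_le_right : U ⊓ V ≤ V))
  obtain ⟨δ, -, -, h2, -⟩ := Groth.Agent.S0659.result Z U V htop G
  intro x
  have hm : (x, (0 : EtCoh.H ↑V ((EtCoh.pull V.ι).obj G) 2)) ∈
      (AddMonoidHom.prod (EtCore.Hpull U.ι G 2) (EtCore.Hpull V.ι G 2)).range := by
    rw [← h2 2, AddMonoidHom.mem_ker]
    exact hsub.elim _ _
  obtain ⟨y, hy⟩ := hm
  exact ⟨y, congrArg Prod.fst hy⟩

/-- Second cohomology restricts surjectively to every open. -/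
theorem surjective_Hpull_two {X : Scheme.{u}} (f : X ⟶ Spec (CommRingCat.of k)) [LocallyOfFiniteType f]
    [QuasiCompact f] (hdim : topologicalKrullDim X ≤ 1) (F : EtCoh.Ab X) (hF : EtCoh.IsTorsion F) (U : X.Opens)
    [PreservesFiniteLimits (EtCoh.pull U.ι)] : Function.Surjective (EtCore.Hpull U.ι F 2) := by
  haveI : CompactSpace ↥X := QuasiCompact.compactSpace_of_compactSpace f
  obtain ⟨s, hs, he⟩ := (isCompact_and_isOpen_iff_finite_and_eq_biUnion_affineOpens (U := (Set.univ : Set X))).1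
    ⟨isCompact_univ, isOpen_univ⟩
  suffices h : ∀ (l : List X.affineOpens) (U : X.Opens), (∀ x : X, x ∈ U ∨ ∃ V ∈ l, x ∈ (V : X.Opens)) →
      ∀ [PreservesFiniteLimits (EtCoh.pull U.ι)], Function.Surjective (EtCore.Hpull U.ι F 2) from
    h hs.toFinset.toList U fun x => Or.inr (by
      obtain ⟨W, hW, hxW⟩ := Set.mem_iUnion₂.1 (he.subset (Set.mem_univ x))
      exact ⟨W, by simpa using hW, hxW⟩)
  intro l
  induction l with
  | nil =>
    intro U hU _
    have : U = ⊤ := top_unique fun x _ => (hU x).resolve_right fun ⟨V, hV, _⟩ => List.not_mem_nil hV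
    subst this
    haveI : IsIso (⊤ : X.Opens).ι := inferInstanceAs (IsIso X.topIso.hom)
    exact (Groth.L28.AcyComp.bijective_Hpull (⊤ : X.Opens).ι F 2).2
  | cons V l ih =>
    intro U hU _
    let W : X.Opens := U ⊔ V
    haveI := Groth.L27.EtSite.preservesFiniteLimits_pull W.ι
    have hW := ih W fun x => by
      rcases hU x with h | ⟨V', hV', hx⟩
      · exact Or.inl (Or.inl h)
      · rcases List.mem_cons.1 hV' with rfl | h
        · exact Or.inl (Or.inr hx)
        · exact Or.inr ⟨V', h, hx⟩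
    let UW : (↑W : Scheme.{u}).Opens := W.ι ⁻¹ᵁ U
    let VW : (↑W : Scheme.{u}).Opens := W.ι ⁻¹ᵁ V
    haveI := Groth.L27.EtSite.preservesFiniteLimits_pull UW.ι
    have htop : UW ⊔ VW = ⊤ := top_unique fun x _ => x.2
    have hVW : IsAffineOpen VW := V.2.preimage_of_isOpenImmersion W.ι (by
      rw [Scheme.Opens.opensRange_ι]; exact le_sup_right)
    have h1 := surjective_Hpull_two_step (W.ι ≫ f)
      (W.ι.isOpenEmbedding.isEmbedding.isInducing.topologicalKrullDim_le.trans hdim) ((EtCoh.pull W.ι).obj F)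
      (Groth.L28.CurveCd.isTorsion_pull _ hF) UW VW hVW htop
    let t : (↑UW : Scheme.{u}) ⟶ X := UW.ι ≫ W.ι
    haveI : IsOpenImmersion t := inferInstanceAs (IsOpenImmersion (UW.ι ≫ W.ι))
    haveI := Groth.L27.EtSite.preservesFiniteLimits_pull t
    have ht : Function.Surjective (EtCore.Hpull t F 2) := surjective_HpullVia UW.ι W.ι t rfl F 2 h1 hW
    have hr : t.opensRange = U := by
      apply Opens.ext
      rw [Scheme.Hom.coe_opensRange]
      refine Set.Subset.antisymm ?_ fun x hx => ?_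
      · rintro _ ⟨z, rfl⟩
        exact z.2
      · exact ⟨⟨⟨x, Or.inl hx⟩, hx⟩, rfl⟩
    let e : (↑U : Scheme.{u}) ⟶ ↑UW := IsOpenImmersion.lift t U.ι (by
      rw [← Scheme.Hom.coe_opensRange t, hr, U.range_ι])
    have hefac : e ≫ t = U.ι := IsOpenImmersion.lift_fac _ _ _
    haveI : IsIso e := by
      haveI : IsOpenImmersion (e ≫ t) := by rw [hefac]; infer_instance
      haveI : IsOpenImmersion e := IsOpenImmersion.of_comp e t
      haveI : Surjective e := ⟨fun z => by
        have hz : t z ∈ U := hr ▸ ⟨z, rfl⟩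
        refine ⟨⟨t z, hz⟩, t.isOpenEmbedding.injective ?_⟩
        rw [← Scheme.Hom.comp_apply, hefac]
        rfl⟩
      exact (isIso_iff_isOpenImmersion_and_epi_base e).2 ⟨inferInstance, (TopCat.epi_iff_surjective _).2 e.surjective⟩
    haveI := Groth.L27.EtSite.preservesFiniteLimits_pull e
    exact surjective_HpullVia e t U.ι hefac F 2 (Groth.L28.AcyComp.bijective_Hpull e _ 2).2 ht

end Groth.L21.CurveFin
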